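import Groth.Agent.NLPerfLib.Basic
import Groth.Agent.DRingLib.Devissage
import Groth.Agent.DRingLib.AmplitudeTri
import Groth.Agent.DRingLib.TorBalance
import Groth.Agent.FVLib.Global
import Groth.Agent.RegLCILib.Local
import Groth.Agent.PerfModLib.Poly

/-!
A finite type algebra of finite tor dimension with naive cotangent complex of amplitude `[-1, 0]` is
a local complete intersection.
-/

set_option autoImplicit false
universe u

open CategoryTheory CategoryTheory.Limits Groth.Agent.DRingLib

attribute [local instance] HasDerivedCategory.standard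

namespace NLConvLib

section Flat

variable {R : Type u} [CommRing R] {X Y : ModuleCat.{u} R} (f : X ⟶ Y)

theorem shortExact_of_iso_f {S : ShortComplex (ModuleCat.{u} R)} (e : S.X₁ ≅ S.X₂) (he : e.hom = S.f)
    (h₃ : IsZero S.X₃) : S.ShortExact :=
  ShortComplex.Splitting.shortExact
    { r := e.inv, s := 0, f_r := by rw [← he, e.hom_inv_id], s_g := h₃.eq_of_src _ _
      id := by rw [comp_zero, add_zero, ← he, e.inv_hom_id] }

theorem shortExact_of_iso_g {S : ShortComplex (ModuleCat.{u} R)} (e : S.X₂ ≅ S.X₃) (he : e.hom = S.g)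
    (h₁ : IsZero S.X₁) : S.ShortExact :=
  ShortComplex.Splitting.shortExact
    { r := 0, s := e.inv, f_r := h₁.eq_of_src _ _, s_g := by rw [← he, e.inv_hom_id]
      id := by rw [zero_comp, zero_add, ← he, e.hom_inv_id] }

/-- The first term of a two-term complex of amplitude `[-1, 0]` with flat second term is flat. -/
theorem flat_of_amplitude [Module.Flat R Y]
    (h : DRing.HasTorAmplitudeIn R (-1) 0 (DRing.toD (NLKillLib.two f))) : Module.Flat R X := by
  let ι : (HomologicalComplex.single (ModuleCat.{u} R) (ComplexShape.up ℤ) 0).obj Y ⟶ NLKillLib.two f :=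
    HomologicalComplex.mkHomFromSingle (NLKillLib.e₁ f).inv
      (fun j _ => by rw [NLKillLib.d_zero_right, comp_zero])
  let π : NLKillLib.two f ⟶ (HomologicalComplex.single (ModuleCat.{u} R) (ComplexShape.up ℤ) (-1)).obj X :=
    HomologicalComplex.mkHomToSingle (NLKillLib.e₀ f).hom (fun i hi => by
      simp only [ComplexShape.up_Rel] at hi
      exact (HomologicalComplex.isZero_double_X f _ i (by omega) (by omega)).eq_of_src _ _)
  have hw : ι ≫ π = 0 := HomologicalComplex.hom_ext _ _ fun i => by
    by_cases hi : i = 0
    · subst hi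
      exact (HomologicalComplex.isZero_single_obj_X _ (-1) X 0 (by decide)).eq_of_tgt _ _
    · exact (HomologicalComplex.isZero_single_obj_X _ 0 Y i hi).eq_of_src _ _
  have hS : (ShortComplex.mk ι π hw).ShortExact := by
    refine HomologicalComplex.shortExact_of_degreewise_shortExact _ fun i => ?_
    by_cases h0 : i = 0
    · subst h0
      let e : ((HomologicalComplex.single (ModuleCat.{u} R) (ComplexShape.up ℤ) 0).obj Y).X 0 ≅
          (NLKillLib.two f).X 0 :=
        HomologicalComplex.singleObjXSelf (ComplexShape.up ℤ) 0 Y ≪≫ (NLKillLib.e₁ f).symm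
      have he : e.hom = ι.f 0 := by simp [e, ι, HomologicalComplex.mkHomFromSingle_f]
      exact shortExact_of_iso_f (S := ShortComplex.mk (ι.f 0) (π.f 0) (by
          rw [← HomologicalComplex.comp_f, hw, HomologicalComplex.zero_f])) e he
        (HomologicalComplex.isZero_single_obj_X (ComplexShape.up ℤ) (-1) X 0 (by decide))
    · have hz := HomologicalComplex.isZero_single_obj_X (ComplexShape.up ℤ) 0 Y i h0
      obtain ⟨e, he⟩ : ∃ e : (NLKillLib.two f).X i ≅
          ((HomologicalComplex.single (ModuleCat.{u} R) (ComplexShape.up ℤ) (-1)).obj X).X i,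
          e.hom = π.f i := by
        by_cases h1 : i = -1
        · subst h1
          exact ⟨NLKillLib.e₀ f ≪≫ (HomologicalComplex.singleObjXSelf (ComplexShape.up ℤ) (-1) X).symm,
            by simp [π, HomologicalComplex.mkHomToSingle_f]⟩
        · exact ⟨(HomologicalComplex.isZero_double_X f _ i h1 h0).iso
            (HomologicalComplex.isZero_single_obj_X (ComplexShape.up ℤ) (-1) X i h1),
            (HomologicalComplex.isZero_double_X f _ i h1 h0).eq_of_src _ _⟩
      exact shortExact_of_iso_g (S := ShortComplex.mk (ι.f i) (π.f i) (hz.eq_of_src _ _)) e he hz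
  have hY : DRing.HasTorAmplitudeIn R 0 0 (Dual.inD R Y) := (hasTorAmplitudeIn_zero_iff_flat Y).2 ‹_›
  have h1 : DRing.HasTorAmplitudeIn R ((-1) + 1) (0 + 1)
      (DerivedCategory.Q.obj ((HomologicalComplex.single (ModuleCat.{u} R) (ComplexShape.up ℤ) 0).obj Y)) :=
    hasTorAmplitudeIn_of_iso ((DerivedCategory.singleFunctorIsoCompQ (ModuleCat.{u} R) 0).app Y)
      (hasTorAmplitudeIn_mono (by omega) (by omega) hY)
  have h3 : DRing.HasTorAmplitudeIn R (-1) 0
      ((DerivedCategory.singleFunctor (ModuleCat.{u} R) (-1)).obj X) :=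
    hasTorAmplitudeIn_of_iso
      ((DerivedCategory.singleFunctorIsoCompQ (ModuleCat.{u} R) (-1)).app X).symm
      (hasTorAmplitudeIn_obj₃ (DerivedCategory.triangleOfSES hS)
        (DerivedCategory.triangleOfSES_distinguished hS) h1 h)
  have h4 : DRing.HasTorAmplitudeIn R 0 1 (Dual.inD R X) := by
    have h5 := hasTorAmplitudeIn_shift (hasTorAmplitudeIn_of_iso (singleShiftIso X (-1)).symm h3) (-1)
    exact hasTorAmplitudeIn_of_iso
      ((shiftFunctorCompIsoId (DerivedCategory (ModuleCat.{u} R)) (- -1 : ℤ) (-1) (by norm_num)).app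
        (Dual.inD R X))
      (hasTorAmplitudeIn_mono (by omega) (by omega) h5)
  let P := projectiveResolution (ModuleCat.of R X)
  have hamp := amp_of_hasTorAmplitudeIn h4 (isKFlat_projectiveResolution P) (qResolutionIso P)
  refine (hasTorAmplitudeIn_zero_iff_flat X).1
    (hasTorAmplitudeIn_of_amp (isKFlat_projectiveResolution P) (qResolutionIso P) ?_)
  intro N i hi
  rcases hi with hi | hi
  · exact hamp N i (Or.inl hi)
  · exact (HomologicalComplex.exactAt_iff_isZero_homology _ i).mp (ShortComplex.exact_of_isZero_X₂ _
      ((MonoidalCategory.tensorRight N).map_isZero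
        (CochainComplex.isZero_of_isStrictlyLE P.cochainComplex 0 i hi)))

end Flat

variable {A B : Type u} [CommRing A] [CommRing B] [Algebra A B]

/-- A presentation whose kernel has finite projective dimension and projective conormal module. -/
theorem isKoszulRegularIdeal_of_projective {P : Type u} [CommRing P] [IsNoetherianRing P] {I : Ideal P}
    {n : ℕ} (hpd : CommAlgDim.PDLT P I (n + 1)) [Module.Projective (P ⧸ I) I.Cotangent] :
    LCI.IsKoszulRegularIdeal I := by
  rw [← KRLib.locKR_iff]
  intro p hp hIp
  obtain ⟨g, hg, rs, hrs, hspan⟩ := FVLib.exists_away_regular I hpd p hIp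
  exact ⟨g, hg, RegLCILib.krGen_of_regular hrs.toIsWeaklyRegular hspan⟩

/-- The kernel of a presentation of an algebra of finite tor dimension has finite projective
dimension. -/
theorem exists_pdlt_ker [IsNoetherianRing A] (hB : DRing.HasFiniteTorDim A B) {n : ℕ}
    (f : MvPolynomial (Fin n) A →ₐ[A] B) (hf : Function.Surjective f) :
    ∃ m : ℕ, CommAlgDim.PDLT (MvPolynomial (Fin n) A) (RingHom.ker f.toRingHom) (m + 1) := by
  let P := MvPolynomial (Fin n) A
  letI : Algebra P B := f.toRingHom.toAlgebra
  haveI : IsScalarTower A P B := IsScalarTower.of_algebraMap_eq fun a => (f.commutes a).symm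
  haveI : Module.Finite P B := Module.Finite.of_surjective (Algebra.linearMap P B) hf
  obtain ⟨d, hd⟩ := DiagLib.exists_FD_of_hasFiniteTorDim hB
  have h1 : CommAlgDim.PDLT P B (d + n + 1) := (PerfModLib.fd_mvPolynomial A n d B hd).pdlt
  have h2 := (CommAlgDim.pdlt_ker_iff (Algebra.linearMap P B) hf (d + n)).1 (h1.mono (by omega))
  exact ⟨d + n, h2⟩

/-- Transport to the conormal module of the kernel. -/
theorem projective_ker_cotangent (E : Algebra.Extension.{u} A B) [Module.Projective B E.Cotangent] :
    Module.Projective (E.Ring ⧸ E.ker) E.ker.Cotangent := by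
  let σ : B ≃+* E.Ring ⧸ E.ker :=
    (RingHom.quotientKerEquivOfSurjective E.algebraMap_surjective).symm
  haveI : RingHomInvPair (σ : B →+* E.Ring ⧸ E.ker) (σ.symm : E.Ring ⧸ E.ker →+* B) :=
    RingHomInvPair.of_ringEquiv σ
  haveI := RingHomInvPair.symm (σ : B →+* E.Ring ⧸ E.ker) (σ.symm : E.Ring ⧸ E.ker →+* B)
  let e : E.Cotangent ≃ₛₗ[(σ : B →+* E.Ring ⧸ E.ker)] E.ker.Cotangent :=
    { toFun := Algebra.Extension.Cotangent.val
      invFun := Algebra.Extension.Cotangent.of
      left_inv := fun _ => rfl
      right_inv := fun _ => rfl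
      map_add' := fun _ _ => rfl
      map_smul' := fun b x => by
        obtain ⟨p, rfl⟩ := E.algebraMap_surjective b
        have : σ (algebraMap E.Ring B p) = Ideal.Quotient.mk E.ker p := by
          rw [RingEquiv.symm_apply_eq]; rfl
        show (algebraMap E.Ring B p • x).val = σ (algebraMap E.Ring B p) • x.val
        rw [this, algebraMap_smul, ← Ideal.Quotient.algebraMap_eq, algebraMap_smul]
        exact Algebra.Extension.Cotangent.val_smul' (P := E) p x }
  exact Module.Projective.of_equiv e

/-- The conormal module of a presentation of amplitude `[-1, 0]` is projective. -/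
theorem projective_cotangent_of_amplitude (E : Algebra.Extension.{u} A B) [IsNoetherianRing B]
    [IsNoetherianRing E.Ring] [Module.Free B E.CotangentSpace]
    (h : DRing.HasTorAmplitudeIn B (-1) 0 (DRing.toD (NLKillLib.two (NLPerfLib.ccHom E)))) :
    Module.Projective B E.Cotangent := by
  haveI : Module.Flat B (ModuleCat.of B E.CotangentSpace) := (inferInstance : Module.Flat B E.CotangentSpace)
  haveI hflat : Module.Flat B E.Cotangent := flat_of_amplitude (NLPerfLib.ccHom E) h
  haveI : Module.Finite B E.Cotangent := by
    haveI : Module.Finite E.Ring E.ker := Module.Finite.of_fg (IsNoetherian.noetherian E.ker)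
    haveI : Module.Finite E.Ring E.Cotangent :=
      Module.Finite.of_surjective _ Algebra.Extension.Cotangent.mk_surjective
    exact Module.Finite.of_restrictScalars_finite E.Ring _ _
  haveI := Module.finitePresentation_of_finite B E.Cotangent
  exact Module.Flat.projective_of_finitePresentation

set_option maxHeartbeats 1000000 in
/-- Finite tor dimension and amplitude `[-1, 0]` of the naive cotangent complex give a local complete
intersection. -/
theorem isLCI_of_amplitude [IsNoetherianRing A] [Algebra.FiniteType A B]
    (hB : DRing.HasFiniteTorDim A B) (h : DRing.HasTorAmplitudeIn B (-1) 0 (LCI.NL A B)) :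
    LCI.IsLCI A B := by
  obtain ⟨n, f, hf⟩ := Algebra.FiniteType.iff_quotient_mvPolynomial''.1 (inferInstance : Algebra.FiniteType A B)
  refine ⟨inferInstance, n, f, hf, ?_⟩
  haveI : IsNoetherianRing B := Algebra.FiniteType.isNoetherianRing A B
  have hfX : f = MvPolynomial.aeval fun i => f (MvPolynomial.X i) := MvPolynomial.aeval_unique f
  let G₀ : Algebra.Generators A B (Fin n) :=
    Algebra.Generators.ofSurjective (fun i => f (MvPolynomial.X i)) (by rwa [← hfX])
  let E := G₀.toExtension
  have hker : RingHom.ker f.toRingHom = E.ker := by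
    refine (G₀.ker_eq_ker_aeval_val.trans ?_).symm
    rw [show MvPolynomial.aeval G₀.val = f from hfX.symm]
    rfl
  haveI : Module.Free B E.CotangentSpace := Module.Free.of_basis G₀.cotangentSpaceBasis
  have h' : DRing.HasTorAmplitudeIn B (-1) 0 (DRing.toD (NLKillLib.two (NLPerfLib.ccHom E))) :=
    hasTorAmplitudeIn_of_iso (NLPerfLib.toDIso
      (Algebra.Generators.defaultHom G₀ (Algebra.Generators.self A B)).toExtensionHom
      (Algebra.Generators.defaultHom (Algebra.Generators.self A B) G₀).toExtensionHom).symm h
  haveI : IsNoetherianRing E.Ring := (inferInstance : IsNoetherianRing (MvPolynomial (Fin n) A))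
  haveI : Module.Projective B E.Cotangent := projective_cotangent_of_amplitude E h'
  haveI := projective_ker_cotangent E
  obtain ⟨m, hpd⟩ := exists_pdlt_ker hB f hf
  rw [hker] at hpd ⊢
  exact isKoszulRegularIdeal_of_projective (P := E.Ring) hpd

end NLConvLib
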