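import Groth.Agent.NLConvLib.Basic
import Groth.Agent.TransLib.SyntLCI
import Groth.Agent.TransLib.SyntBC
import Groth.Agent.CILib.TorDim
import Mathlib.RingTheory.Extension.Cotangent.BaseChange

/-!
The fibres of a flat algebra whose naive cotangent complex has amplitude `[-1, 0]` are local complete
intersections.
-/

set_option autoImplicit false
universe u

open TensorProduct Algebra

attribute [local instance] HasDerivedCategory.standard

namespace NLConvLib

section Hom

variable {R S : Type u} [CommRing R] [CommRing S] [Algebra R S] (T : Type u) [CommRing T] [Algebra R T]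

/-- The canonical map on conormal modules is injective when the quotient is flat. -/
theorem tensorCotangentHom_injective (I : Ideal S) [Module.Flat R (S ⧸ I)] :
    Function.Injective (I.tensorCotangentHom R T) := by
  let a : S →+* T ⊗[R] S := Algebra.TensorProduct.includeRight.toRingHom
  let f : (I.map a).Cotangent →ₗ[T] T ⊗[R] S ⧸ (I.map a) ^ 2 :=
    (Ideal.cotangentToQuotientSquare _).restrictScalars T
  suffices h : Function.Injective (f ∘ₗ I.tensorCotangentHom R T) from .of_comp h
  let g : T ⊗[R] I.Cotangent →ₗ[T] T ⊗[R] (S ⧸ I ^ 2) :=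
    TensorProduct.AlgebraTensorModule.lTensor T T (I.cotangentToQuotientSquare.restrictScalars R)
  let hₐ : T ⊗[R] (S ⧸ I ^ 2) ≃ₐ[T] T ⊗[R] S ⧸ (I.map a) ^ 2 :=
    (Algebra.TensorProduct.tensorQuotientEquiv _ _ _ _).trans
      (Ideal.quotientEquivAlgOfEq T (Ideal.map_pow _ _ _))
  have : f ∘ₗ I.tensorCotangentHom R T = hₐ.toLinearMap ∘ₗ g := by
    refine TensorProduct.AlgebraTensorModule.ext fun t x => ?_
    obtain ⟨x, rfl⟩ := I.toCotangent_surjective x
    simp only [f, g, LinearMap.comp_apply, TensorProduct.AlgebraTensorModule.lTensor_tmul,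
      LinearMap.coe_restrictScalars, Ideal.tensorCotangentHom_tmul, map_smul,
      Ideal.toCotangent_to_quotient_square]
    show _ = hₐ (t ⊗ₜ[R] _)
    simp [hₐ]
    refine (congrArg _ (Ideal.tensorCotangentHom_tmul R T I t x)).trans ?_
    rw [LinearMap.map_smul_of_tower]
    refine (congrArg (t • ·) (Ideal.toCotangent_to_quotient_square _ _)).trans ?_
    show t • (Ideal.Quotient.mk (Ideal.map a I ^ 2)) (1 ⊗ₜ[R] (x : S)) = _
    rw [← Ideal.Quotient.mkₐ_eq_mk T, ← map_smul, smul_tmul', smul_eq_mul, mul_one]
  rw [this, LinearMap.coe_comp]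
  refine hₐ.injective.comp ?_
  let q : (S ⧸ I ^ 2) →ₐ[R] S ⧸ I := Ideal.Quotient.factorₐ R (Ideal.pow_le_self two_ne_zero)
  have hex : Function.Exact (I.cotangentToQuotientSquare.restrictScalars R) q.toLinearMap := by
    intro y
    obtain ⟨y, rfl⟩ := Ideal.Quotient.mk_surjective y
    constructor
    · intro hy
      have hy' : y ∈ I := Ideal.Quotient.eq_zero_iff_mem.1 hy
      exact ⟨I.toCotangent (⟨y, hy'⟩ : ↥I), Ideal.toCotangent_to_quotient_square _ _⟩
    · rintro ⟨z, hz⟩
      obtain ⟨z, rfl⟩ := I.toCotangent_surjective z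
      rw [← hz]
      exact Ideal.Quotient.eq_zero_iff_mem.2 z.2
  exact PDLib.lTensor_injective_of_flat T _ q.toLinearMap (Ideal.cotangentToQuotientSquare_injective I) hex
    (Ideal.Quotient.factor_surjective (Ideal.pow_le_self two_ne_zero))

attribute [local instance] Algebra.TensorProduct.rightAlgebra

/-- Base change of a flat conormal module is flat, when the quotient is flat over the base. -/
theorem flat_cotangent_baseChange (E : Algebra.Extension.{u} R S) [Module.Flat R S]
    [Module.Flat S E.Cotangent] :
    Module.Flat (T ⊗[R] S) (E.baseChange (T := T)).Cotangent := by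
  haveI : Algebra.IsPushout R T S (T ⊗[R] S) := TensorProduct.isPushout
  haveI : Module.Flat R (E.Ring ⧸ E.ker) :=
    Module.Flat.of_linearEquiv ((Ideal.quotientKerAlgEquivOfSurjective
      (f := IsScalarTower.toAlgHom R E.Ring S) E.algebraMap_surjective).toLinearEquiv)
  let μ : E.Cotangent →ₗ[S] (E.baseChange (T := T)).Cotangent := Algebra.Extension.Cotangent.map (E.toBaseChange T)
  let Φ : (T ⊗[R] S) ⊗[S] E.Cotangent →ₗ[T ⊗[R] S] (E.baseChange (T := T)).Cotangent :=
    LinearMap.liftBaseChange (T ⊗[R] S) μ
  let Ψ : T ⊗[R] E.Cotangent →ₗ[T] (E.baseChange (T := T)).Cotangent :=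
    LinearMap.liftBaseChange T (μ.restrictScalars R)
  have hΨ : Function.Bijective Ψ := by
    let e₁ := TensorProduct.AlgebraTensorModule.congr (.refl T T)
      (E.cotangentEquivCotangentKer.restrictScalars R)
    let e₃ := (Ideal.Cotangent.equivOfEq _ _ (E.ker_baseChange T).symm).restrictScalars T ≪≫ₗ
      (E.baseChange (T := T)).cotangentEquivCotangentKer.symm.restrictScalars T
    have hb : Function.Bijective (e₃.toLinearMap ∘ₗ E.ker.tensorCotangentHom R T ∘ₗ e₁.toLinearMap) := by
      rw [LinearMap.coe_comp, LinearMap.coe_comp]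
      exact e₃.bijective.comp (Function.Bijective.comp
        ⟨tensorCotangentHom_injective T E.ker, E.ker.tensorCotangentHom_surjective R T⟩ e₁.bijective)
    suffices heq : Ψ = e₃.toLinearMap ∘ₗ E.ker.tensorCotangentHom R T ∘ₗ e₁.toLinearMap by rw [heq]; exact hb
    refine TensorProduct.AlgebraTensorModule.ext fun t x => ?_
    obtain ⟨x, rfl⟩ := Algebra.Extension.Cotangent.mk_surjective x
    simp only [Ψ, μ, e₁, e₃, LinearMap.liftBaseChange_tmul, LinearMap.coe_restrictScalars,
      LinearMap.comp_apply, LinearEquiv.coe_coe, TensorProduct.AlgebraTensorModule.congr_tmul,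
      LinearEquiv.refl_apply, LinearEquiv.restrictScalars_apply, LinearEquiv.trans_apply,
      Algebra.Extension.cotangentEquivCotangentKer_apply, Algebra.Extension.Cotangent.val_mk,
      Ideal.tensorCotangentHom_tmul, map_smul, Algebra.Extension.Cotangent.map_mk]
    rfl
  let κ := IsPushout.cancelBaseChange R T S (T ⊗[R] S) E.Cotangent
  have hΦ : Function.Bijective Φ := by
    suffices heq : Φ.restrictScalars T = Ψ ∘ₗ κ.toLinearMap by
      have := hΨ.comp κ.bijective
      rwa [← LinearEquiv.coe_coe, ← LinearMap.coe_comp, ← heq] at this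
    refine LinearMap.ext fun z => ?_
    obtain ⟨w, rfl⟩ := κ.symm.surjective z
    rw [LinearMap.comp_apply, LinearEquiv.coe_coe, LinearEquiv.apply_symm_apply]
    induction w with
    | zero => simp
    | add a b ha hb => simp only [map_add, ha, hb]
    | tmul t x =>
      simp only [κ, Φ, Ψ, IsPushout.cancelBaseChange_symm_tmul, LinearMap.liftBaseChange_tmul,
        LinearMap.coe_restrictScalars, algebraMap_smul]
  exact Module.Flat.of_linearEquiv (LinearEquiv.ofBijective Φ hΦ).symm

end Hom

variable {A B : Type u} [CommRing A] [CommRing B] [Algebra A B]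

/-- A flat finite type algebra with amplitude `[-1, 0]` has local complete intersection fibres. -/
theorem isLCI_fibre (K : Type u) [Field K] [Algebra A K] [Module.Flat A B] [Algebra.FiniteType A B]
    (h : DRing.HasTorAmplitudeIn B (-1) 0 (LCI.NL A B)) : LCI.IsLCI K (K ⊗[A] B) := by
  obtain ⟨n, f, hf⟩ := Algebra.FiniteType.iff_quotient_mvPolynomial''.1 (inferInstance : Algebra.FiniteType A B)
  have hfX : f = MvPolynomial.aeval fun i => f (MvPolynomial.X i) := MvPolynomial.aeval_unique f
  let G₀ : Algebra.Generators A B (Fin n) :=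
    Algebra.Generators.ofSurjective (fun i => f (MvPolynomial.X i)) (by rwa [← hfX])
  haveI : Module.Free B G₀.toExtension.CotangentSpace := Module.Free.of_basis G₀.cotangentSpaceBasis
  haveI : Module.Flat B (ModuleCat.of B G₀.toExtension.CotangentSpace) :=
    (inferInstance : Module.Flat B G₀.toExtension.CotangentSpace)
  haveI : Module.Flat B G₀.toExtension.Cotangent :=
    flat_of_amplitude (NLPerfLib.ccHom G₀.toExtension)
      (Groth.Agent.DRingLib.hasTorAmplitudeIn_of_iso (NLPerfLib.toDIso
        (Algebra.Generators.defaultHom G₀ (Algebra.Generators.self A B)).toExtensionHom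
        (Algebra.Generators.defaultHom (Algebra.Generators.self A B) G₀).toExtensionHom).symm h)
  let G := G₀.baseChange (T := K)
  let E' := G₀.toExtension.baseChange (T := K)
  haveI : Module.Flat (K ⊗[A] B) E'.Cotangent := flat_cotangent_baseChange K G₀.toExtension
  let u₁ := G₀.baseChangeFromBaseChange K
  let u₂ := G₀.baseChangeToBaseChange K
  have h₁ : ∀ z, Algebra.Extension.Cotangent.map u₁ (Algebra.Extension.Cotangent.map u₂ z) = z := fun z => by
    obtain ⟨⟨x, hx⟩, rfl⟩ := Algebra.Extension.Cotangent.mk_surjective z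
    simp only [Algebra.Extension.Cotangent.map_mk]
    congr 1
    ext1
    exact (MvPolynomial.algebraTensorAlgEquiv A K).apply_symm_apply x
  have h₂ : ∀ z, Algebra.Extension.Cotangent.map u₂ (Algebra.Extension.Cotangent.map u₁ z) = z := fun z => by
    obtain ⟨⟨x, hx⟩, rfl⟩ := Algebra.Extension.Cotangent.mk_surjective z
    simp only [Algebra.Extension.Cotangent.map_mk]
    congr 1
    ext1
    exact (MvPolynomial.algebraTensorAlgEquiv A K).symm_apply_apply x
  let eC : G.toExtension.Cotangent ≃ₗ[K ⊗[A] B] E'.Cotangent :=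
    { Algebra.Extension.Cotangent.map u₂ with
      invFun := Algebra.Extension.Cotangent.map u₁
      left_inv := h₁
      right_inv := h₂ }
  haveI : Module.Flat (K ⊗[A] B) G.toExtension.Cotangent := Module.Flat.of_linearEquiv eC
  haveI : IsNoetherianRing (K ⊗[A] B) := Algebra.FiniteType.isNoetherianRing K _
  haveI : IsNoetherianRing G.toExtension.Ring := (inferInstance : IsNoetherianRing (MvPolynomial (Fin n) K))
  haveI : Module.Finite (K ⊗[A] B) G.toExtension.Cotangent := by
    haveI : Module.Finite G.toExtension.Ring G.toExtension.ker :=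
      Module.Finite.of_fg (IsNoetherian.noetherian G.toExtension.ker)
    haveI : Module.Finite G.toExtension.Ring G.toExtension.Cotangent :=
      Module.Finite.of_surjective _ Algebra.Extension.Cotangent.mk_surjective
    exact Module.Finite.of_restrictScalars_finite G.toExtension.Ring _ _
  haveI := Module.finitePresentation_of_finite (K ⊗[A] B) G.toExtension.Cotangent
  haveI : Module.Projective (K ⊗[A] B) G.toExtension.Cotangent := Module.Flat.projective_of_finitePresentation
  haveI := projective_ker_cotangent G.toExtension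
  let φb : MvPolynomial (Fin n) K →ₐ[K] K ⊗[A] B := MvPolynomial.aeval G.val
  have hφb : Function.Surjective φb := fun b => ⟨G.σ b, G.aeval_val_σ b⟩
  have hker : RingHom.ker φb.toRingHom = G.toExtension.ker := G.ker_eq_ker_aeval_val.symm
  have hfd : DRing.HasFiniteTorDim K (K ⊗[A] B) :=
    CILib.hasFiniteTorDim_of_FD (n := 0) (show Module.Flat K (K ⊗[A] B) from inferInstance)
  obtain ⟨m, hpd⟩ := exists_pdlt_ker hfd φb hφb
  refine ⟨inferInstance, n, φb, hφb, ?_⟩
  rw [hker] at hpd ⊢
  exact isKoszulRegularIdeal_of_projective (P := G.toExtension.Ring) hpd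

/-- A flat finitely presented algebra with amplitude `[-1, 0]` is syntomic. -/
theorem isSyntomic_of_amplitude [Module.Flat A B] [Algebra.FinitePresentation A B]
    (h : DRing.HasTorAmplitudeIn B (-1) 0 (LCI.NL A B)) : Synt.IsSyntomic A B :=
  ⟨inferInstance, inferInstance, fun p => TransLib.isLCIOver_of_isSyntomic
    (TransLib.isSyntomic_of_flat_isLCI (inferInstance : Module.Flat p.asIdeal.ResidueField (p.asIdeal.Fiber B))
      (isLCI_fibre p.asIdeal.ResidueField h))⟩

end NLConvLib
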